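import Mathlib

/-!
# The character of a finite flat model of a constant group scheme of order p
-/

set_option autoImplicit false
set_option linter.style.haveILetI false

universe u

open TensorProduct

namespace Groth.Agent.SekSuwa2

variable {R : Type u} [CommRing R] [IsDomain R] [IsIntegrallyClosed R] (K : Type u) [Field K] [Algebra R K]
  [IsFractionRing R K] {M : Type} [Group M] [Fintype M] {B : Type u} [CommRing B] [Bialgebra R B]
  [Module.Finite R B] [Module.Free R B]

/-- Generic points of a finite flat bialgebra are integral. -/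
theorem exists_integral_points (χ : M → B →ₐ[R] K)
    (hmul : ∀ m n, χ (m * n) =
      (Algebra.TensorProduct.lift (χ m) (χ n) fun _ _ => Commute.all _ _).comp (Bialgebra.comulAlgHom R B))
    (Φ : K ⊗[R] B →ₐ[K] (M → K)) (hΦ : Function.Bijective Φ) (hΦχ : ∀ b m, Φ (1 ⊗ₜ b) m = χ m b) :
    ∃ c : M → B →ₐ[R] R, (∀ m b, algebraMap R K (c m b) = χ m b) ∧
      (∀ m n, c (m * n) =
        (Algebra.TensorProduct.lift (c m) (c n) fun _ _ => Commute.all _ _).comp (Bialgebra.comulAlgHom R B)) ∧
      (∀ x, (∀ m, c m x = 0) → x = 0) ∧ Module.finrank R B = Fintype.card M := by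
  classical
  have hint : ∀ m b, ∃ r : R, algebraMap R K r = χ m b := fun m b =>
    IsIntegrallyClosed.isIntegral_iff.1 ((IsIntegral.of_finite R b).map (χ m))
  choose c hc using hint
  have hinj := IsFractionRing.injective R K
  let c' : M → B →ₐ[R] R := fun m =>
    { toFun := c m
      map_one' := hinj (by rw [hc, map_one, map_one])
      map_mul' := fun x y => hinj (by rw [hc, map_mul, map_mul, hc, hc])
      map_zero' := hinj (by rw [hc, map_zero, map_zero])
      map_add' := fun x y => hinj (by rw [hc, map_add, map_add, hc, hc])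
      commutes' := fun r => hinj (by rw [hc, AlgHom.commutes]; rfl) }
  refine ⟨c', hc, fun m n => AlgHom.ext fun b => hinj ?_, fun x hx => ?_, ?_⟩
  · rw [show algebraMap R K (c' (m * n) b) = χ (m * n) b from hc _ _, hmul]
    simp only [AlgHom.comp_apply]
    induction Bialgebra.comulAlgHom R B b using TensorProduct.induction_on with
    | zero => simp
    | add y z hy hz => simp only [map_add, hy, hz]
    | tmul y z =>
      simp only [Algebra.TensorProduct.lift_tmul, map_mul]
      rw [show algebraMap R K (c' m y) = χ m y from hc _ _, show algebraMap R K (c' n z) = χ n z from hc _ _]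
  · have h0 : Φ (1 ⊗ₜ x) = 0 := funext fun m => by
      rw [hΦχ, ← hc, show c m x = 0 from hx m, map_zero]
      rfl
    exact Algebra.TensorProduct.includeRight_injective hinj
      ((hΦ.1 (h0.trans (map_zero Φ).symm)).trans (TensorProduct.tmul_zero B (1 : K)).symm)
  · rw [← Module.finrank_baseChange (R := K) (S := R) (M' := B), (LinearEquiv.ofBijective Φ.toLinearMap hΦ).finrank_eq,
      Module.finrank_fintype_fun_eq_card]

variable [IsNoetherianRing R]

/-- A multiplicative character of the group comes from the bialgebra. -/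
theorem exists_character (χ : M → B →ₐ[R] K)
    (hmul : ∀ m n, χ (m * n) =
      (Algebra.TensorProduct.lift (χ m) (χ n) fun _ _ => Commute.all _ _).comp (Bialgebra.comulAlgHom R B))
    (Φ : K ⊗[R] B →ₐ[K] (M → K)) (hΦ : Function.Bijective Φ) (hΦχ : ∀ b m, Φ (1 ⊗ₜ b) m = χ m b)
    (hint : ∀ m b, ∃ r, algebraMap R K r = χ m b) (f : M →* R) :
    ∃ u : B, ∀ m, χ m u = algebraMap R K (f m) := by
  classical
  let ρ := algebraMap R K
  -- the functionals that are integral on B
  let ev : B → (M → K) →ₗ[R] K := fun b =>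
    ∑ m, (LinearMap.mulRight R (χ m b)).comp (LinearMap.proj (φ := fun _ : M => K) m)
  have hev : ∀ b γ, ev b γ = ∑ m, γ m * χ m b := fun b γ => by simp [ev, LinearMap.sum_apply]
  let D : Submodule R (M → K) := ⨅ b : B, (LinearMap.range (Algebra.linearMap R K)).comap (ev b)
  have hD : ∀ γ, γ ∈ D ↔ ∀ b, ∃ r, ρ r = ∑ m, γ m * χ m b := fun γ => by
    simp [D, Submodule.mem_iInf, hev, ρ]
  have hinj := IsFractionRing.injective R K
  haveI : Module.Finite R D := by
    let bR := Module.Free.chooseBasis R B
    have h : ∀ (γ : D) i, ∃ r, ρ r = ∑ m, γ.1 m * χ m (bR i) := fun γ i => (hD γ.1).1 γ.2 _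
    choose φ hφ using h
    let L : D →ₗ[R] (Module.Free.ChooseBasisIndex R B → R) :=
      { toFun := φ
        map_add' := fun γ δ => funext fun i => hinj (by
          show ρ _ = ρ (_ + _)
          rw [map_add, hφ, hφ, hφ, ← Finset.sum_add_distrib]
          exact Finset.sum_congr rfl fun m _ => add_mul _ _ _)
        map_smul' := fun a γ => funext fun i => hinj (by
          show ρ _ = ρ (a * _)
          rw [map_mul, hφ, hφ, Finset.mul_sum]
          exact Finset.sum_congr rfl fun m _ => by
            show (a • γ.1) m * _ = _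
            rw [Pi.smul_apply, Algebra.smul_def]; ring) }
    refine Module.Finite.of_injective L fun γ δ h => Subtype.ext ?_
    let e : K ⊗[R] B ≃ₐ[K] (M → K) := AlgEquiv.ofBijective Φ hΦ
    let ψ : (M → K) →ₗ[K] K := ∑ m, (γ.1 m - δ.1 m) • LinearMap.proj (φ := fun _ : M => K) m
    have hψ : ψ.comp e.toLinearMap = 0 := by
      refine (Algebra.TensorProduct.basis K bR).ext fun i => ?_
      have h1 := congrArg ρ (congrFun h i)
      rw [show L γ i = φ γ i from rfl, show L δ i = φ δ i from rfl, hφ, hφ] at h1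
      simp only [ψ, LinearMap.comp_apply, LinearMap.sum_apply, LinearMap.smul_apply, LinearMap.zero_apply,
        Algebra.TensorProduct.basis_apply, smul_eq_mul, sub_mul, Finset.sum_sub_distrib]
      rw [sub_eq_zero]
      convert h1 using 2 <;> exact congrArg _ (hΦχ _ _)
    funext m
    have h2 := LinearMap.congr_fun hψ (e.symm (Pi.single m 1))
    simpa [ψ, LinearMap.sum_apply, Pi.single_apply, sub_eq_zero] using h2
  let Z : (M → K) →ₗ[R] K :=
    ∑ m, (LinearMap.mulRight R (ρ (f m))).comp (LinearMap.proj (φ := fun _ : M => K) m)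
  have hZ : ∀ γ, Z γ = ∑ m, γ m * ρ (f m) := fun γ => by simp [Z, LinearMap.sum_apply]
  let S : Submodule R K := D.map Z
  have hS1 : (1 : K) ∈ S := by
    refine ⟨Pi.single 1 1, (hD _).2 fun b => ?_, ?_⟩
    · obtain ⟨r, hr⟩ := hint 1 b
      exact ⟨r, by rw [show ρ r = _ from hr]; simp [Pi.single_apply]⟩
    · rw [hZ]; simp [Pi.single_apply]
  have hSmul : ∀ x ∈ S, ∀ y ∈ S, x * y ∈ S := by
    rintro _ ⟨γ, hγ, rfl⟩ _ ⟨δ, hδ, rfl⟩
    refine ⟨fun l => ∑ m, γ m * δ (m⁻¹ * l), (hD _).2 fun b => ?_, ?_⟩
    · have key : ∑ l, (∑ m, γ m * δ (m⁻¹ * l)) * χ l b = ∑ m, ∑ n, γ m * δ n * χ (m * n) b := by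
        simp only [Finset.sum_mul]
        rw [Finset.sum_comm]
        refine Finset.sum_congr rfl fun m _ => (Fintype.sum_equiv (Equiv.mulLeft m) _ _ fun n => ?_).symm
        simp
      rw [key]
      have hgen : ∀ t : B ⊗[R] B, ∃ r, ρ r = ∑ m, ∑ n, γ m * δ n *
          (Algebra.TensorProduct.lift (χ m) (χ n) fun _ _ => Commute.all _ _) t := fun t => by
        induction t using TensorProduct.induction_on with
        | zero => exact ⟨0, by simp⟩
        | add y z hy hz =>
          obtain ⟨r, hr⟩ := hy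
          obtain ⟨r', hr'⟩ := hz
          exact ⟨r + r', by simp only [map_add, hr, hr', mul_add, Finset.sum_add_distrib]⟩
        | tmul y z =>
          obtain ⟨r, hr⟩ := (hD γ).1 hγ y
          obtain ⟨r', hr'⟩ := (hD δ).1 hδ z
          refine ⟨r * r', ?_⟩
          rw [map_mul, hr, hr', Finset.sum_mul_sum]
          exact Finset.sum_congr rfl fun m _ => Finset.sum_congr rfl fun n _ => by
            rw [Algebra.TensorProduct.lift_tmul]; ring
      obtain ⟨r, hr⟩ := hgen (Bialgebra.comulAlgHom R B b)
      exact ⟨r, hr.trans (Finset.sum_congr rfl fun m _ => Finset.sum_congr rfl fun n _ => by rw [hmul]; rfl)⟩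
    · rw [hZ, hZ, hZ, Finset.sum_mul_sum]
      simp only [Finset.sum_mul]
      rw [Finset.sum_comm]
      refine Finset.sum_congr rfl fun m _ => (Fintype.sum_equiv (Equiv.mulLeft m) _ _ fun n => ?_).symm
      simp only [Equiv.coe_mulLeft, inv_mul_cancel_left, map_mul]
      ring
  have hSR : ∀ x ∈ S, ∃ r, ρ r = x := fun x hx =>
    IsIntegrallyClosed.isIntegral_iff.1 (isIntegral_of_smul_mem_submodule (A := K) S
      (fun h => one_ne_zero ((Submodule.eq_bot_iff _).1 h 1 hS1)) ((Submodule.FG.map Z (Module.Finite.iff_fg.1 ‹_›)))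
      x fun y hy => hSmul x hx y hy)
  -- the element
  let e : K ⊗[R] B ≃ₐ[K] (M → K) := AlgEquiv.ofBijective Φ hΦ
  let bR := Module.Free.chooseBasis R B
  let bK := Algebra.TensorProduct.basis K bR
  let z := e.symm fun m => ρ (f m)
  have hcoord : ∀ i, ∃ r, ρ r = bK.coord i z := fun i => by
    let γ : M → K := fun m => bK.coord i (e.symm (Pi.single m 1))
    have hγ : γ ∈ D := (hD _).2 fun b => ⟨bR.coord i b, by
      rw [show ∑ m, γ m * χ m b = bK.coord i (e.symm (∑ m, χ m b • Pi.single m (1 : K))) by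
        simp only [map_sum, map_smul, smul_eq_mul, γ]
        exact Finset.sum_congr rfl fun m _ => mul_comm _ _,
        show (∑ m, χ m b • Pi.single m (1 : K)) = e (1 ⊗ₜ b) from funext fun n => by
          simp [e, Finset.sum_apply, Pi.single_apply, hΦχ],
        AlgEquiv.symm_apply_apply]
      simp [bK, ρ]⟩
    obtain ⟨r, hr⟩ := hSR _ ⟨γ, hγ, rfl⟩
    refine ⟨r, hr.trans ?_⟩
    rw [hZ, show z = e.symm (∑ m, ρ (f m) • Pi.single m (1 : K)) from congrArg e.symm (funext fun n => by
      simp [Finset.sum_apply, Pi.single_apply])]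
    simp only [map_sum, map_smul, smul_eq_mul, γ]
    exact Finset.sum_congr rfl fun m _ => mul_comm _ _
  choose r hr using hcoord
  refine ⟨∑ i, r i • bR i, fun m => ?_⟩
  rw [← hΦχ, show (1 : K) ⊗ₜ[R] (∑ i, r i • bR i) = z by
    conv_rhs => rw [← bK.sum_repr z]
    rw [TensorProduct.tmul_sum]
    refine Finset.sum_congr rfl fun i _ => ?_
    rw [← Module.Basis.coord_apply, ← hr, Algebra.TensorProduct.basis_apply, TensorProduct.tmul_smul,
      TensorProduct.smul_tmul']
    congr 1
    rw [Algebra.smul_def, smul_eq_mul]]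
  exact congrFun (AlgEquiv.apply_symm_apply e _) m

end Groth.Agent.SekSuwa2
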