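import Mathlib

/-!
# Powers of a primitive element in characteristic `p`
-/

set_option autoImplicit false

universe u

open TensorProduct

namespace Groth.Agent.SekSuwa2

variable {k : Type u} [Field k] {B : Type u} [CommRing B] [Bialgebra k B]

/-- The first `p` powers of a nonzero primitive element of augmentation zero are independent. -/
theorem linearIndependent_pow_of_primitive (p : ℕ) [hp : Fact p.Prime] [CharP k p] (T : B) (hT : T ≠ 0)
    (hε : Bialgebra.counitAlgHom k B T = 0) (hΔ : Bialgebra.comulAlgHom k B T = T ⊗ₜ 1 + 1 ⊗ₜ T) :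
    LinearIndependent k fun j : Fin p => T ^ (j : ℕ) := by
  classical
  suffices key : ∀ d ≤ p, LinearIndependent k fun j : Fin d => T ^ (j : ℕ) from key p le_rfl
  intro d hd
  induction d with
  | zero => exact linearIndependent_empty_type
  | succ d ih =>
    specialize ih (Nat.le_of_succ_le hd)
    rw [linearIndependent_finSucc']
    refine ⟨ih, fun hmem => ?_⟩
    obtain ⟨a, ha⟩ := (Submodule.mem_span_range_iff_exists_fun k).1 hmem
    simp only [Fin.init, Fin.val_castSucc, Fin.val_last] at ha ih
    match d with
    | 0 =>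
      simp only [Finset.univ_eq_empty, Finset.sum_empty, pow_zero] at ha
      have : Nontrivial B := ⟨⟨T, 0, hT⟩⟩
      exact zero_ne_one ha
    | 1 =>
      simp only [Fin.sum_univ_one, Fin.val_zero, pow_zero, pow_one] at ha
      have h1 := congrArg (Bialgebra.counitAlgHom k B) ha
      rw [map_smul, map_one, hε, smul_eq_mul, mul_one] at h1
      rw [h1, zero_smul] at ha
      exact hT ha.symm
    | d + 2 =>
      have hli := ih
      obtain ⟨L, hL⟩ := LinearMap.exists_leftInverse_of_injective
        (Fintype.linearCombination k fun j : Fin (d + 2) => T ^ (j : ℕ))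
        (LinearMap.ker_eq_bot.2 hli.fintypeLinearCombination_injective)
      have hLj : ∀ (j : ℕ) (hj : j < d + 2), L (T ^ j) = Pi.single ⟨j, hj⟩ 1 := fun j hj => by
        have h := LinearMap.congr_fun hL (Pi.single ⟨j, hj⟩ 1)
        simpa [Fintype.linearCombination_apply_single] using h
      let φ : B →ₗ[k] k := (LinearMap.proj (⟨1, by omega⟩ : Fin (d + 2))).comp L
      let ψ : B →ₗ[k] k := (LinearMap.proj (⟨d + 1, by omega⟩ : Fin (d + 2))).comp L
      let μ : B ⊗[k] B →ₗ[k] k := (LinearMap.mul' k k).comp (TensorProduct.map φ ψ)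
      have hμ : ∀ n, μ ((Bialgebra.comulAlgHom k B T) ^ n) =
          ∑ i ∈ Finset.range (n + 1), (n.choose i : k) * (φ (T ^ i) * ψ (T ^ (n - i))) := fun n => by
        rw [hΔ, Commute.add_pow (Commute.all _ _), map_sum]
        refine Finset.sum_congr rfl fun i _ => ?_
        rw [Algebra.TensorProduct.tmul_pow, Algebra.TensorProduct.tmul_pow, Algebra.TensorProduct.tmul_mul_tmul,
          one_pow, one_pow, mul_one, one_mul, ← nsmul_eq_mul', map_nsmul, nsmul_eq_mul]
        simp [μ]
      have hφ : ∀ (i : ℕ) (hi : i < d + 2), φ (T ^ i) = if i = 1 then 1 else 0 := fun i hi => by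
        simp [φ, hLj i hi, Pi.single_apply, Fin.ext_iff, eq_comm]
      have hψ : ∀ (i : ℕ) (hi : i < d + 2), ψ (T ^ i) = if i = d + 1 then 1 else 0 := fun i hi => by
        simp [ψ, hLj i hi, Pi.single_apply, Fin.ext_iff, eq_comm]
      have h := congrArg (fun z => μ (Bialgebra.comulAlgHom k B z)) ha
      simp only [map_sum, map_smul, map_pow, hμ] at h
      rw [Finset.sum_eq_zero, Finset.sum_eq_single 1] at h
      · rw [hφ 1 (by omega), if_pos rfl, show d + 2 - 1 = d + 1 by omega, hψ _ (by omega), if_pos rfl,
          Nat.choose_one_right, mul_one, mul_one] at h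
        exact absurd ((CharP.cast_eq_zero_iff k p (d + 2)).1 h.symm) (Nat.not_dvd_of_pos_of_lt (by omega) (by omega))
      · intro i hi hi1
        rw [Finset.mem_range] at hi
        rcases Nat.lt_or_ge i (d + 2) with h' | h'
        · rw [hφ i h', if_neg hi1, zero_mul, mul_zero]
        · obtain rfl : i = d + 2 := by omega
          rw [Nat.sub_self, hψ 0 (by omega), if_neg (by omega), mul_zero, mul_zero]
      · intro h'; exact absurd (Finset.mem_range.2 (by omega)) h'
      · intro j _
        rw [smul_eq_mul, Finset.sum_eq_zero fun i hi => ?_, mul_zero]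
        rw [Finset.mem_range] at hi
        have hj := j.isLt
        rw [hφ i (by omega), hψ _ (by omega)]
        split_ifs <;> simp <;> omega

end Groth.Agent.SekSuwa2
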