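import Groth.Prelude.Def_SekSuwa2
import Groth.Agent.SekSuwaKer5.Main
import Groth.Agent.SekSuwa2.Character
import Groth.Agent.SekSuwa2.Primitive

/-!
# Models of the constant group of order p over a discrete valuation ring
-/

set_option autoImplicit false
set_option linter.style.haveILetI false

universe u

open TensorProduct IsLocalRing

noncomputable section

namespace Groth.Agent.SekSuwa2

open SekSuwa

variable {R : Type u} [CommRing R] [IsDomain R] [IsDiscreteValuationRing R] (p : ℕ) [hp : Fact p.Prime]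
  {B : Type u} [CommRing B] [HopfAlgebra R B] [Module.Finite R B] [Module.Free R B]

local notation "k" => ResidueField R

omit hp in
theorem exists_smul_of_one_tmul_eq_zero {π : R} (hπ : maximalIdeal R = Ideal.span {π}) {x : B}
    (h : (1 : k) ⊗ₜ[R] x = 0) : ∃ y, x = π • y := by
  have h' : (1 : R ⧸ maximalIdeal R) ⊗ₜ[R] x = 0 := h
  have h1 := congrArg (TensorProduct.quotTensorEquivQuotSMul B (maximalIdeal R)) h'
  rw [show (1 : R ⧸ maximalIdeal R) = Ideal.Quotient.mk _ 1 from rfl, TensorProduct.quotTensorEquivQuotSMul_mk_tmul,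
    one_smul, map_zero, Submodule.Quotient.mk_eq_zero, hπ, Submodule.ideal_span_singleton_smul] at h1
  obtain ⟨y, -, hy⟩ := (Submodule.mem_smul_pointwise_iff_exists _ _ _).1 h1
  exact ⟨y, hy.symm⟩

variable (M : Type) [CommGroup M] [Fintype M]

/-- A finite flat bialgebra with a full set of `R`-points forming a group, separating elements, is the coordinate ring
of some `G_{λ,1}`, as soon as a faithful character with values in the `p`-th roots of unity comes from it. -/
theorem exists_equiv [CharP k p] (ζ : R) (hζ : IsPrimitiveRoot ζ p) (hM : Fintype.card M = p)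
    (c : M → B →ₐ[R] R)
    (hmul : ∀ m n, c (m * n) =
      (Algebra.TensorProduct.lift (c m) (c n) fun _ _ => Commute.all _ _).comp (Bialgebra.comulAlgHom R B))
    (hsep : ∀ x, (∀ m, c m x = 0) → x = 0) (hrk : Module.finrank R B = p)
    (f : M →* R) (hf : Function.Injective f) (hfp : ∀ m, f m ^ p = 1) (u : B) (hu : ∀ m, c m u = f m) :
    ∃ (lam : R) (h : DivCond lam p), lam ≠ 0 ∧ Nonempty (AK R lam p h ≃ₐc[R] B) := by
  classical
  have hp1 := hp.out.one_lt
  haveI : NeZero p := ⟨hp.out.ne_zero⟩
  have hsep₂ : ∀ z : B ⊗[R] B,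
      (∀ m n, (Algebra.TensorProduct.lift (c m) (c n) fun _ _ => Commute.all _ _) z = 0) → z = 0 := by
    intro z hz
    let b := Module.Free.chooseBasis R B
    let bb := b.tensorProduct b
    have hexp : ∀ m n, ∑ i, (∑ j, bb.repr z (i, j) * c n (b j)) * c m (b i) = 0 := fun m n => by
      rw [← hz m n]
      conv_rhs => rw [← bb.sum_repr z, Fintype.sum_prod_type]
      simp only [map_sum, map_smul, smul_eq_mul, Finset.sum_mul, bb, Module.Basis.tensorProduct_apply,
        Algebra.TensorProduct.lift_tmul]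
      exact Finset.sum_congr rfl fun i _ => Finset.sum_congr rfl fun j _ => by ring
    have h1 : ∀ n i, ∑ j, bb.repr z (i, j) * c n (b j) = 0 := fun n i => by
      have h := hsep (∑ i, (∑ j, bb.repr z (i, j) * c n (b j)) • b i) fun m => by
        rw [map_sum, ← hexp m n]
        simp [map_smul]
      exact (Fintype.linearIndependent_iff.1 b.linearIndependent _ h) i
    refine bb.ext_elem fun ij => ?_
    have h := hsep (∑ j, bb.repr z (ij.1, j) • b j) fun n => by
      rw [map_sum, ← h1 n ij.1]
      simp [map_smul]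
    simpa using (Fintype.linearIndependent_iff.1 b.linearIndependent _ h) ij.2
  have hext : ∀ x y, (∀ m, c m x = c m y) → x = y := fun x y h =>
    sub_eq_zero.1 (hsep _ fun m => by rw [map_sub, h, sub_self])
  have hΔu : Bialgebra.comulAlgHom R B u = u ⊗ₜ u := sub_eq_zero.1 (hsep₂ _ fun m n => by
    rw [map_sub, Algebra.TensorProduct.lift_tmul, ← AlgHom.comp_apply, ← hmul, hu, hu, hu, map_mul, sub_self])
  have hup : u ^ p = 1 := hext _ _ fun m => by rw [map_pow, hu, hfp, map_one]
  have hM1 : ∃ m₁ : M, f m₁ ≠ 1 := by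
    obtain ⟨m₁, hm₁⟩ := Fintype.exists_ne_of_one_lt_card (hM ▸ hp1) (1 : M)
    exact ⟨m₁, fun h => hm₁ (hf (h.trans f.map_one.symm))⟩
  obtain ⟨m₁, hm₁⟩ := hM1
  -- the level
  obtain ⟨π, hπ⟩ := IsDiscreteValuationRing.exists_irreducible R
  have hπm : maximalIdeal R = Ideal.span {π} := hπ.maximalIdeal_eq
  have hex : ∃ n, ¬ ∃ y, u - 1 = π ^ (n + 1) • y := by
    by_contra h
    push Not at h
    obtain ⟨n, hn⟩ := FiniteMultiplicity.of_not_isUnit (α := R) hπ.not_isUnit (sub_ne_zero.2 hm₁)
    obtain ⟨y, hy⟩ := h n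
    refine hn ⟨c m₁ y, ?_⟩
    have := congrArg (c m₁) hy
    rwa [map_sub, map_one, hu, map_smul, smul_eq_mul] at this
  let n := Nat.find hex
  obtain ⟨t, ht⟩ : ∃ t, u - 1 = π ^ n • t := by
    rcases Nat.eq_zero_or_pos n with h0 | h0
    · exact ⟨u - 1, by rw [h0, pow_zero, one_smul]⟩
    · have := Nat.find_min hex (Nat.sub_one_lt_of_lt h0)
      rw [not_not, Nat.sub_add_cancel h0] at this
      exact this
  let lam := π ^ n
  have hlam : lam ≠ 0 := pow_ne_zero _ hπ.ne_zero
  have htne : ∀ y, t ≠ π • y := fun y hy => Nat.find_spec hex ⟨y, ht.trans (by rw [hy, smul_smul, ← pow_succ])⟩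
  have hu' : u = 1 + lam • t := by rw [← ht, add_sub_cancel]
  let r : M → R := fun m => c m t
  have hr : ∀ m, lam * r m = f m - 1 := fun m => by
    have := congrArg (c m) ht
    rw [map_sub, map_one, hu, map_smul, smul_eq_mul] at this
    exact this.symm
  have hΔt : Bialgebra.comulAlgHom R B t = t ⊗ₜ 1 + 1 ⊗ₜ t + lam • (t ⊗ₜ t) := sub_eq_zero.1 (hsep₂ _ fun m n => by
    rw [map_sub, ← AlgHom.comp_apply, ← hmul]
    simp only [map_add, map_smul, Algebra.TensorProduct.lift_tmul, map_one, smul_eq_mul, mul_one, one_mul]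
    refine mul_left_cancel₀ hlam ?_
    have h1 := hr (m * n)
    rw [map_mul] at h1
    linear_combination h1 - (1 + lam * r n) * hr m - f m * hr n)
  have htf : ∀ (a : R) (x : B), a ≠ 0 → a • x = 0 → x = 0 := fun a x ha h => hsep x fun m => by
    have := congrArg (c m) h
    rw [map_smul, map_zero, smul_eq_mul] at this
    exact (mul_eq_zero.1 this).resolve_left ha
  have hεu : Bialgebra.counitAlgHom R B u = 1 := by
    have h := Coalgebra.rTensor_counit_comul (R := R) u
    rw [show Coalgebra.comul (R := R) u = u ⊗ₜ[R] u from hΔu, LinearMap.rTensor_tmul] at h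
    have h2 := congrArg (TensorProduct.lid R B) h
    rw [TensorProduct.lid_tmul, TensorProduct.lid_tmul, one_smul] at h2
    have h3 := congrArg (c 1) h2
    rw [map_smul, hu, map_one, smul_eq_mul, mul_one] at h3
    exact h3
  have hεt : Bialgebra.counitAlgHom R B t = 0 := by
    have h := congrArg (Bialgebra.counitAlgHom R B) ht
    rw [map_sub, hεu, map_one, sub_self, map_smul, smul_eq_mul] at h
    exact (mul_eq_zero.1 h.symm).resolve_left hlam
  -- the divisibility
  let P : Polynomial R := ∏ m, (Polynomial.X - Polynomial.C (r m))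
  have hroots : Polynomial.nthRootsFinset p (1 : R) = Finset.univ.image f := by
    refine (Finset.eq_of_subset_of_card_le (fun x hx => ?_) ?_).symm
    · obtain ⟨m, -, rfl⟩ := Finset.mem_image.1 hx
      rw [Polynomial.mem_nthRootsFinset hp.out.pos]
      exact hfp m
    · rw [hζ.card_nthRootsFinset, Finset.card_image_of_injective _ hf, Finset.card_univ, hM]
  have hP : Polynomial.C (lam ^ p) * P = (1 + Polynomial.C lam * Polynomial.X) ^ p - 1 := by
    have h := congrArg (fun q : Polynomial R => q.comp (1 + Polynomial.C lam * Polynomial.X))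
      (Polynomial.X_pow_sub_one_eq_prod hp.out.pos hζ)
    simp only [Polynomial.sub_comp, Polynomial.pow_comp, Polynomial.X_comp, Polynomial.one_comp, hroots,
      Finset.prod_image hf.injOn, Polynomial.prod_comp, Polynomial.C_comp] at h
    rw [h, map_pow, ← hM, ← Finset.card_univ, ← Finset.prod_const, ← Finset.prod_mul_distrib]
    refine Finset.prod_congr rfl fun m _ => ?_
    rw [mul_sub, ← map_mul, hr, map_sub, map_one]
    ring
  have hdiv : DivCond lam p := ⟨mem_nonZeroDivisors_of_ne_zero hlam, P, hP⟩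
  -- the homomorphism
  have hinv : (1 + lam • t) * u ^ (p - 1) = 1 := by
    rw [← hu', ← pow_succ', Nat.sub_add_cancel hp.out.pos, hup]
  let g₀ : A R lam →ₐ[R] B := A.lift R lam t (u ^ (p - 1)) hinv
  have hker : ∀ z ∈ kerIdeal lam p hdiv, g₀ z = 0 := fun z hz => by
    obtain ⟨d, rfl⟩ := Ideal.mem_span_singleton'.1 hz
    rw [map_mul]
    refine mul_eq_zero_of_right _ ?_
    refine htf (lam ^ p) _ (pow_ne_zero _ hlam) ?_
    have h := aeval_psiPoly hdiv (B := B) t
    rw [← Algebra.smul_def, ← Algebra.smul_def, ← hu', hup, sub_self] at h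
    rw [show g₀ (kerGen lam p hdiv) = Polynomial.aeval t (psiPoly lam p hdiv) by
      rw [kerGen, ← Polynomial.aeval_algHom_apply, A.lift_t]]
    exact h
  let g : AK R lam p hdiv →ₐ[R] B := Ideal.Quotient.liftₐ (kerIdeal lam p hdiv) g₀ hker
  have hgt : g AK.t = t := A.lift_t _ _ hinv
  have hgi : g AK.inv = u ^ (p - 1) := A.lift_inv _ _ hinv
  have hcomul : (Algebra.TensorProduct.map g g).comp (Bialgebra.comulAlgHom R _) =
      (Bialgebra.comulAlgHom R B).comp g := by
    apply AK.algHom_ext
    · show Algebra.TensorProduct.map g g (CoalgebraStruct.comul (R := R) (AK.t : AK R lam p hdiv)) =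
        Bialgebra.comulAlgHom R B (g AK.t)
      rw [AK.comul_t, hgt, hΔt]
      simp [map_add, map_smul, hgt]
    · show Algebra.TensorProduct.map g g (CoalgebraStruct.comul (R := R) (AK.inv : AK R lam p hdiv)) =
        Bialgebra.comulAlgHom R B (g AK.inv)
      rw [AK.comul_inv, hgi, map_pow, hΔu, Algebra.TensorProduct.tmul_pow]
      simp [hgi]
  have hcounit : (Bialgebra.counitAlgHom R B).comp g = Bialgebra.counitAlgHom R _ := by
    apply AK.algHom_ext
    · show Bialgebra.counitAlgHom R B (g AK.t) = CoalgebraStruct.counit (R := R) (AK.t : AK R lam p hdiv)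
      rw [hgt, hεt, AK.counit_t]
    · show Bialgebra.counitAlgHom R B (g AK.inv) = CoalgebraStruct.counit (R := R) (AK.inv : AK R lam p hdiv)
      rw [hgi, map_pow, hεu, one_pow, AK.counit_inv]
  -- surjectivity
  let U : k ⊗[R] B := 1 ⊗ₜ u
  let T : k ⊗[R] B := 1 ⊗ₜ t
  have hUT : U = 1 + (algebraMap R k lam) • T := by
    show (1 : k) ⊗ₜ[R] u = _
    rw [hu', TensorProduct.tmul_add, TensorProduct.tmul_smul, ← algebraMap_smul k]
    rfl
  haveI : Nontrivial (k ⊗[R] B) := by
    refine Module.nontrivial_of_finrank_pos (R := k) ?_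
    rw [Module.finrank_baseChange, hrk]; exact hp.out.pos
  have hfam : ∃ v : Fin p → AK R lam p hdiv, LinearIndependent k fun j => (1 : k) ⊗ₜ[R] g (v j) := by
    by_cases hl : IsUnit lam
    · refine ⟨fun j => (1 + lam • AK.t) ^ (j : ℕ), ?_⟩
      have e : (fun j : Fin p => (1 : k) ⊗ₜ[R] g ((1 + lam • AK.t) ^ (j : ℕ))) = fun j : Fin p => U ^ (j : ℕ) := by
        funext j
        rw [map_pow, map_add, map_one, map_smul, hgt, ← hu', Algebra.TensorProduct.tmul_pow, one_pow]
      rw [e]
      have hgl : IsGroupLikeElem k U := by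
        refine ⟨?_, ?_⟩
        · show Coalgebra.counit (R := k) ((1 : k) ⊗ₜ[R] u) = 1
          rw [TensorProduct.counit_tmul]
          show Bialgebra.counitAlgHom R B u • CoalgebraStruct.counit (R := k) (1 : k) = 1
          rw [hεu, one_smul]
          rfl
        · show Coalgebra.comul (R := k) ((1 : k) ⊗ₜ[R] u) = U ⊗ₜ[k] U
          rw [TensorProduct.comul_tmul, show Coalgebra.comul (R := R) u = u ⊗ₜ[R] u from hΔu]
          simp [U]
      have hU1 : U ≠ 1 := fun h => by
        rw [hUT, add_eq_left, smul_eq_zero] at h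
        rcases h with h | h
        · exact (residue_ne_zero_iff_isUnit lam).2 hl h
        · obtain ⟨y, hy⟩ := exists_smul_of_one_tmul_eq_zero hπm h
          exact htne y hy
      have hord : orderOf U = p := orderOf_eq_prime
        (by show ((1 : k) ⊗ₜ[R] u) ^ p = 1; rw [Algebra.TensorProduct.tmul_pow, hup, one_pow]; rfl) hU1
      refine LinearIndependent.comp (v := fun x : {a : k ⊗[R] B | IsGroupLikeElem k a} => (x : k ⊗[R] B))
        linearIndepOn_isGroupLikeElem (fun j : Fin p => ⟨U ^ (j : ℕ), hgl.pow⟩) fun i j hij => ?_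
      exact Fin.ext (pow_injOn_Iio_orderOf (hord.symm ▸ i.isLt) (hord.symm ▸ j.isLt) (congrArg Subtype.val hij))
    · refine ⟨fun j => AK.t ^ (j : ℕ), ?_⟩
      have e : (fun j : Fin p => (1 : k) ⊗ₜ[R] g (AK.t ^ (j : ℕ))) = fun j : Fin p => T ^ (j : ℕ) := by
        funext j
        rw [map_pow, hgt, Algebra.TensorProduct.tmul_pow, one_pow]
      rw [e]
      have hl0 : algebraMap R k lam = 0 := by
        rw [← not_ne_iff]; exact fun h => hl ((residue_ne_zero_iff_isUnit lam).1 h)
      refine linearIndependent_pow_of_primitive p T (fun h => ?_) ?_ ?_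
      · obtain ⟨y, hy⟩ := exists_smul_of_one_tmul_eq_zero hπm h
        exact htne y hy
      · show Coalgebra.counit (R := k) ((1 : k) ⊗ₜ[R] t) = 0
        rw [TensorProduct.counit_tmul]
        show Bialgebra.counitAlgHom R B t • CoalgebraStruct.counit (R := k) (1 : k) = 0
        rw [hεt, zero_smul]
      · show Coalgebra.comul (R := k) ((1 : k) ⊗ₜ[R] t) = _
        rw [TensorProduct.comul_tmul, show Coalgebra.comul (R := R) t = _ from hΔt]
        simp only [TensorProduct.tmul_add, TensorProduct.tmul_smul, map_add, map_smul]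
        rw [← algebraMap_smul k lam, hl0, zero_smul, map_zero, add_zero]
        simp [T]
        rfl
  obtain ⟨v, hv⟩ := hfam
  let bk := basisOfLinearIndependentOfCardEqFinrank hv (by rw [Fintype.card_fin, Module.finrank_baseChange, hrk])
  have hsurj : Function.Surjective g := by
    have htop := IsLocalRing.span_eq_top_of_tmul_eq_basis (fun j => g (v j)) bk fun j => by simp [bk]
    intro b
    obtain ⟨a, ha⟩ := (Submodule.mem_span_range_iff_exists_fun R).1 (htop ▸ Submodule.mem_top : b ∈ _)
    exact ⟨∑ j, a j • v j, by rw [map_sum, ← ha]; simp⟩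
  obtain ⟨hm, hd⟩ := SekSuwaKer5.psiPoly_monic R lam p hdiv hp.out.pos
  let eA := (SekSuwaKer5.equivRoot R lam p hdiv hp.out.pos).toLinearEquiv
  let e₁ : B ≃ₗ[R] AdjoinRoot (psiPoly lam p hdiv) :=
    ((Module.finBasisOfFinrankEq R B hrk).equiv (AdjoinRoot.powerBasis' hm).basis
      (finCongr ((hd inferInstance).symm.trans (AdjoinRoot.powerBasis'_dim hm).symm)))
  haveI : Module.Finite R (AK R lam p hdiv) := Module.Finite.equiv (e₁.trans eA)
  have hinj : Function.Injective g := by
    have := OrzechProperty.injective_of_surjective_endomorphism ((e₁.trans eA).toLinearMap.comp g.toLinearMap)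
      ((e₁.trans eA).surjective.comp hsurj)
    exact fun a b h => this (congrArg (e₁.trans eA) h)
  exact ⟨lam, hdiv, hlam,
    ⟨BialgEquiv.ofBijective (BialgHom.ofAlgHom g hcounit hcomul) ⟨hinj, hsurj⟩⟩⟩

end Groth.Agent.SekSuwa2
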