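import Groth.Prelude.Def_TwC
import Groth.Agent.IsoTriv.SchemeSpec

/-!
# The generic points of an affine group scheme with constant generic fibre
-/

set_option autoImplicit false

universe u

open CategoryTheory CategoryTheory.Limits MonoidalCategory CartesianMonoidalCategory AlgebraicGeometry TensorProduct MonObj

noncomputable section

namespace Groth.Agent.SekSuwa2

open CoactBr HopfLib.SpPoints

/-- A finite flat group scheme over a ring is the spectrum of a finite flat Hopf algebra. -/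
theorem exists_hopf_finite {R : Type u} [CommRing R] (G : Over (Spec (CommRingCat.of R))) [GrpObj G] [IsFinite G.hom]
    [Flat G.hom] : ∃ (B : Type u) (_ : CommRing B) (_ : HopfAlgebra R B),
      Module.Finite R B ∧ Module.Flat R B ∧ Nonempty (Grp.mk G ≅ Grp.mk (sp R B)) := by
  haveI : IsAffine G.left := isAffine_of_isAffineHom G.hom
  obtain ⟨B, _, _, ⟨i⟩⟩ := IsoTriv.SchemeSpec.exists_spec G
  let j : sp R B ≅ G := ((Grp.forget _).mapIso i).symm
  have hj : (sp R B).hom = j.hom.left ≫ G.hom := (Over.w j.hom).symm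
  haveI : IsIso j.hom.left := inferInstanceAs (IsIso ((Over.forget _).map j.hom))
  have h1 : IsFinite (sp R B).hom := hj ▸ inferInstance
  have h2 : Flat (sp R B).hom := hj ▸ inferInstance
  refine ⟨B, inferInstance, inferInstance, ?_, ?_, ⟨i⟩⟩
  · have := (IsFinite.SpecMap_iff _).1 (show IsFinite (Spec.map (CommRingCat.ofHom (algebraMap R B))) from h1)
    exact RingHom.finite_algebraMap.1 this
  · have := (HasRingHomProperty.Spec_iff (P := @Flat)).1 (show Flat (Spec.map (CommRingCat.ofHom (algebraMap R B))) from h2)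
    exact RingHom.flat_algebraMap_iff.1 this

/-- The generic points. -/
theorem exists_points {R : Type u} [CommRing R] (K : Type u) [Field K] [Algebra R K] (M : Type) [Group M] [Finite M]
    (G : Over (Spec (CommRingCat.of R))) [GrpObj G] (B : Type u) [CommRing B] [HopfAlgebra R B]
    (i : Grp.mk G ≅ Grp.mk (sp R B)) (e : Red.bc (str R K) G ≅ TwC.const (Spec (CommRingCat.of K)) M)
    (he : TwC.IsConstGrp M (Red.bc (str R K) G) e) :
    ∃ χ : M → B →ₐ[R] K, (∀ m n, χ (m * n) =
        (Algebra.TensorProduct.lift (χ m) (χ n) fun _ _ => Commute.all _ _).comp (Bialgebra.comulAlgHom R B)) ∧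
      ∃ Φ : K ⊗[R] B →ₐ[K] (M → K), Function.Bijective Φ ∧ ∀ b m, Φ (1 ⊗ₜ b) m = χ m b := by
  obtain ⟨i₁⟩ := IsoTriv.SchemeSpec.nonempty_bc_congr (str R K) i
  obtain ⟨i₂⟩ := IsoTriv.SchemeSpec.nonempty_bc_spec (R := R) K B
  let E : Red.bc (str R K) G ≅ sp K (K ⊗[R] B) := (Grp.forget _).mapIso (i₁ ≪≫ i₂)
  haveI hE : IsMonHom E.hom := (i₁ ≪≫ i₂).hom.hom.isMonHom_hom
  let x : M → (sp K K ⟶ sp K (K ⊗[R] B)) := fun m =>
    unitIso.hom ≫ (TwC.pt (Spec (CommRingCat.of K)) M m ≫ e.inv) ≫ E.hom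
  have hx : ∀ m n, x m * x n = x (m * n) := fun m n => by
    show (unitIso.hom ≫ _ ≫ E.hom) * (unitIso.hom ≫ _ ≫ E.hom) = unitIso.hom ≫ _ ≫ E.hom
    rw [← MonObj.comp_mul, ← MonObj.mul_comp, he]
  let ψ : M → K ⊗[R] B →ₐ[K] K := fun m => algOf (x m)
  refine ⟨fun m => ((ψ m).restrictScalars R).comp Algebra.TensorProduct.includeRight, fun m n => ?_,
    Pi.algHom K _ fun m => ψ m, ?_, fun b m => rfl⟩
  · refine AlgHom.ext fun b => ?_
    show ψ (m * n) (1 ⊗ₜ b) = _
    rw [show ψ (m * n) = algOf (x m * x n) by rw [hx], algOf_mul]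
    show (Algebra.TensorProduct.lift (ψ m) (ψ n) fun _ _ => Commute.all _ _) (Coalgebra.comul (R := K) ((1 : K) ⊗ₜ[R] b)) =
      (Algebra.TensorProduct.lift _ _ fun _ _ => Commute.all _ _) (Coalgebra.comul (R := R) b)
    rw [TensorProduct.comul_tmul]
    induction Coalgebra.comul (R := R) b using TensorProduct.induction_on with
    | zero => simp
    | add y z hy hz => simp only [TensorProduct.tmul_add, map_add, hy, hz]
    | tmul y z => simp
  · let Φ : K ⊗[R] B →ₐ[K] (M → K) := Pi.algHom K _ fun m => ψ m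
    let r : (M → K) →+* (ULift.{u} M → K) := Pi.ringHom fun j => Pi.evalRingHom (fun _ : M => K) j.down
    haveI : IsIso (CommRingCat.ofHom r) := by
      refine (ConcreteCategory.isIso_iff_bijective _).2 ⟨fun v w h => funext fun m => congrFun h ⟨m⟩,
        fun v => ⟨fun m => v ⟨m⟩, rfl⟩⟩
    let s₀ : (∐ fun _ : M => Spec (CommRingCat.of K)) ⟶ Spec (CommRingCat.of (M → K)) :=
      (Sigma.reindex (Equiv.ulift.{u} (α := M)) fun _ => Spec (CommRingCat.of K)).inv ≫
        sigmaSpec (fun _ : ULift.{u} M => CommRingCat.of K) ≫ Spec.map (CommRingCat.ofHom r)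
    have hs₀ : ∀ m : M, Sigma.ι (fun _ : M => Spec (CommRingCat.of K)) m ≫ s₀ =
        Spec.map (CommRingCat.ofHom (Pi.evalRingHom (fun _ : M => K) m)) := fun m => by
      show Sigma.ι (fun _ : M => Spec (CommRingCat.of K)) (Equiv.ulift.{u} (ULift.up m)) ≫ _ = _
      rw [Sigma.ι_reindex_inv_assoc]; erw [ι_sigmaSpec_assoc]; rw [← Spec.map_comp]
      rfl
    let s : TwC.const (Spec (CommRingCat.of K)) M ⟶ sp K (M → K) :=
      Over.homMk s₀ (Sigma.hom_ext _ _ fun m => by
        change Sigma.ι _ m ≫ s₀ ≫ Spec.map (CommRingCat.ofHom (algebraMap K (M → K))) =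
          Sigma.ι _ m ≫ Sigma.desc fun _ => 𝟙 _
        rw [reassoc_of% (hs₀ m), Sigma.ι_desc, ← Spec.map_comp, ← Spec.map_id]
        rfl)
    haveI : IsIso s := by
      haveI : IsIso ((Over.forget _).map s) := inferInstanceAs (IsIso s₀)
      exact isIso_of_reflects_iso s (Over.forget _)
    have key : s ≫ pt Φ = e.inv ≫ E.hom := by
      apply Over.OverMorphism.ext
      refine Sigma.hom_ext _ _ fun m => ?_
      have h1 : (pt (ψ m)).left = (x m).left := by rw [show ψ m = algOf (x m) from rfl, pt_algOf]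
      rw [pt_left] at h1
      change Sigma.ι (fun _ : M => Spec (CommRingCat.of K)) m ≫ s₀ ≫ Spec.map (CommRingCat.ofHom Φ.toRingHom) =
        Sigma.ι (fun _ : M => Spec (CommRingCat.of K)) m ≫ (e.inv ≫ E.hom).left
      rw [reassoc_of% (hs₀ m), ← Spec.map_comp]
      refine h1.trans ?_
      show 𝟙 _ ≫ (Sigma.ι _ m ≫ e.inv.left) ≫ E.hom.left = Sigma.ι _ m ≫ e.inv.left ≫ E.hom.left
      rw [Category.id_comp, Category.assoc]
    haveI : IsIso (pt Φ) := by
      rw [show pt Φ = inv s ≫ e.inv ≫ E.hom by rw [← key, IsIso.inv_hom_id_assoc]]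
      infer_instance
    obtain ⟨Ψ, hΨ⟩ := Misc15.AffinePoints.pt_surjective (inv (pt Φ))
    have h1 : Φ.comp Ψ = AlgHom.id K _ := pt_injective (by rw [CoactBr.pt_comp, hΨ, IsIso.hom_inv_id, pt_id])
    have h2 : Ψ.comp Φ = AlgHom.id K _ := pt_injective (by rw [CoactBr.pt_comp, hΨ, IsIso.inv_hom_id, pt_id])
    exact ⟨fun a b h => by rw [← AlgHom.id_apply (R := K) a, ← h2, AlgHom.comp_apply, h, ← AlgHom.comp_apply, h2, AlgHom.id_apply],
      fun v => ⟨Ψ v, DFunLike.congr_fun h1 v⟩⟩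

end Groth.Agent.SekSuwa2
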