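import Groth.Prelude.Def_SekSuwa
import Groth.Prelude.Def_NonAbH2
import Groth.Agent.HopfLib.SpPoints
import Mathlib.AlgebraicGeometry.Pullbacks
import Mathlib.RingTheory.RingHom.FaithfullyFlat

/-!
# Exact sequences of affine group schemes from coordinate rings
-/

set_option autoImplicit false

universe u

open CategoryTheory CategoryTheory.Limits MonoidalCategory CartesianMonoidalCategory MonObj GrpObj AlgebraicGeometry
open TensorProduct

noncomputable section

namespace Groth.Agent.SekSuwa2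

open CoactBr

variable {R : Type u} [CommRing R]

/-- Exactness from a push-out square of coordinate rings. -/
theorem isExactSeq_spec {A B C : Type u} [CommRing A] [CommRing B] [CommRing C] [HopfAlgebra R A] [HopfAlgebra R B]
    [HopfAlgebra R C] (π : B →ₐc[R] C) (ιA : A →ₐc[R] B)
    (htriv : ∀ x, π (ιA x) = algebraMap R C (Bialgebra.counitAlgHom R A x))
    (hff : (ιA : A →+* B).FaithfullyFlat) (hfp : (ιA : A →+* B).FinitePresentation)
    (hpo : IsPushout (CommRingCat.ofHom (ιA : A →+* B)) (CommRingCat.ofHom (ιA : A →+* B))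
      (CommRingCat.ofHom (Algebra.TensorProduct.includeLeft : B →ₐ[R] B ⊗[R] C).toRingHom)
      (CommRingCat.ofHom ((Algebra.TensorProduct.map (AlgHom.id R B) (π : B →ₐ[R] C)).comp
        (Bialgebra.comulAlgHom R B)).toRingHom)) :
    NonAbH1.IsExactSeq Scheme.fppfPrecoverage (SekSuwa.specHom π) (SekSuwa.specHom ιA) := by
  haveI := Misc15.AffinePoints.isIso_Q (R := R) B C
  refine ⟨inferInstance, inferInstance, ?_, ?_, ?_⟩
  · rw [← SekSuwa.specHom_comp, show π.comp ιA = (Bialgebra.unitBialgHom R C).comp (Bialgebra.counitBialgHom R A) from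
      BialgHom.ext fun x => htriv x, SekSuwa.specHom_trivial]
  · let ψ : B →ₐ[R] B ⊗[R] C :=
      (Algebra.TensorProduct.map (AlgHom.id R B) (π : B →ₐ[R] C)).comp (Bialgebra.comulAlgHom R B)
    have hπ : SekSuwa.specHom π = pt (π : B →ₐ[R] C) := Over.OverMorphism.ext rfl
    have hι : SekSuwa.specHom ιA = pt (ιA : A →ₐ[R] B) := Over.OverMorphism.ext rfl
    have h2 : Misc15.AffinePoints.Q B C ≫ ((sp R B) ◁ SekSuwa.specHom π) ≫ μ[sp R B] = pt ψ := by
      rw [hπ, CartesianMonoidalCategory.lift_whiskerLeft_assoc, ← Hom.mul_def, ← CoactBr.pt_comp, pt_mul_pt]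
      congr 1
      refine AlgHom.ext fun b => ?_
      simp only [ψ, AlgHom.comp_apply]
      induction Bialgebra.comulAlgHom R B b using TensorProduct.induction_on with
      | zero => simp
      | add y z hy hz => simp only [map_add, hy, hz]
      | tmul y z => simp
    have hsq : IsPullback (pt (Algebra.TensorProduct.includeLeft : B →ₐ[R] B ⊗[R] C)) (pt ψ)
        (pt (ιA : A →ₐ[R] B)) (pt (ιA : A →ₐ[R] B)) :=
      IsPullback.of_map_of_faithful (F := Over.forget _) (isPullback_SpecMap_of_isPushout _ _ _ _ hpo)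
    rw [hι]
    refine hsq.of_iso (asIso (Misc15.AffinePoints.Q B C)) (Iso.refl _) (Iso.refl _) (Iso.refl _) ?_ ?_ ?_ ?_
    · simp
    · simp only [asIso_hom, Iso.refl_hom, Category.comp_id]
      exact h2.symm
    · simp
    · simp
  · haveI : Flat (Spec.map (CommRingCat.ofHom (ιA : A →+* B))) :=
      (HasRingHomProperty.Spec_iff (P := @Flat)).2 hff.flat
    haveI : Surjective (Spec.map (CommRingCat.ofHom (ιA : A →+* B))) :=
      ⟨(RingHom.FaithfullyFlat.iff_flat_and_comap_surjective.1 hff).2⟩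
    haveI : LocallyOfFinitePresentation (Spec.map (CommRingCat.ofHom (ιA : A →+* B))) :=
      (HasRingHomProperty.Spec_iff (P := @LocallyOfFinitePresentation)).2 hfp
    have hm := Scheme.Hom.singleton_mem_fppfPrecoverage (Spec.map (CommRingCat.ofHom (ιA : A →+* B)))
    refine ⟨Presieve.singleton (Spec.map (CommRingCat.ofHom (ιA : A →+* B))), hm, ?_⟩
    rintro S' g ⟨⟩
    exact ⟨𝟙 _, Category.id_comp _⟩

/-- Exactness is invariant under isomorphisms of groups. -/
theorem isExactSeq_of_iso {S : Scheme.{u}} {K : Precoverage Scheme.{u}} {G' G G'' H : Over S}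
    [GrpObj G'] [GrpObj G] [GrpObj G''] [GrpObj H] {u : G' ⟶ H} {v : H ⟶ G''} (h : NonAbH1.IsExactSeq K u v)
    (b : Grp.mk H ≅ Grp.mk G) :
    NonAbH1.IsExactSeq K (u ≫ b.hom.hom.hom) (b.inv.hom.hom ≫ v) := by
  obtain ⟨hu, hv, huv, hpb, R, hR, hloc⟩ := h
  let j : H ≅ G := (Grp.forget _).mapIso b
  haveI : IsMonHom j.hom := b.hom.hom.isMonHom_hom
  haveI : IsMonHom j.inv := b.inv.hom.isMonHom_hom
  show NonAbH1.IsExactSeq K (u ≫ j.hom) (j.inv ≫ v)
  haveI := hu
  haveI := hv
  refine ⟨inferInstance, inferInstance, by rw [Category.assoc, j.hom_inv_id_assoc, huv], ?_, R, hR, ?_⟩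
  · refine hpb.of_iso (tensorIso j (Iso.refl G')) j j (Iso.refl _) ?_ ?_ ?_ ?_
    · simp
    · rw [Category.assoc, IsMonHom.mul_hom (f := j.hom)]
      rw [← id_tensorHom, ← id_tensorHom, tensorIso_hom, Iso.refl_hom]
      rw [tensorHom_comp_tensorHom_assoc, tensorHom_comp_tensorHom_assoc]
      simp
    · simp
    · simp
  · intro S' g hg
    obtain ⟨s, hs⟩ := hloc g hg
    refine ⟨s ≫ j.hom.left, ?_⟩
    show (s ≫ j.hom.left) ≫ (j.inv ≫ v).left = g
    rw [Category.assoc, ← Over.comp_left, j.hom_inv_id_assoc]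
    exact hs

end Groth.Agent.SekSuwa2
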