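import Mathlib

/-!
# Finite free algebras with separating points
-/

set_option autoImplicit false

universe u

open TensorProduct

namespace Groth.Agent.SekSuwa2

variable {R : Type u} [CommRing R] {B : Type u} [CommRing B] [Algebra R B] {C : Type u} [CommRing C] [Algebra R C]

/-- Pairs of separating points separate the tensor product. -/
theorem sep_tensor [Module.Free R B] [Module.Free R C] [Module.Finite R B] [Module.Finite R C] {ι κ : Type*}
    (c : ι → B →ₐ[R] R) (d : κ → C →ₐ[R] R) (hc : ∀ x, (∀ m, c m x = 0) → x = 0)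
    (hd : ∀ x, (∀ n, d n x = 0) → x = 0) (z : B ⊗[R] C)
    (hz : ∀ m n, (Algebra.TensorProduct.lift (c m) (d n) fun _ _ => Commute.all _ _) z = 0) : z = 0 := by
  classical
  let b := Module.Free.chooseBasis R B
  let b' := Module.Free.chooseBasis R C
  let bb := b.tensorProduct b'
  have hexp : ∀ m n, ∑ i, (∑ j, bb.repr z (i, j) * d n (b' j)) * c m (b i) = 0 := fun m n => by
    rw [← hz m n]
    conv_rhs => rw [← bb.sum_repr z, Fintype.sum_prod_type]
    simp only [map_sum, map_smul, smul_eq_mul, Finset.sum_mul, bb, Module.Basis.tensorProduct_apply,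
      Algebra.TensorProduct.lift_tmul]
    exact Finset.sum_congr rfl fun i _ => Finset.sum_congr rfl fun j _ => by ring
  have h1 : ∀ n i, ∑ j, bb.repr z (i, j) * d n (b' j) = 0 := fun n i => by
    have h := hc (∑ i, (∑ j, bb.repr z (i, j) * d n (b' j)) • b i) fun m => by
      rw [map_sum, ← hexp m n]
      simp [map_smul]
    exact (Fintype.linearIndependent_iff.1 b.linearIndependent _ h) i
  refine bb.ext_elem fun ij => ?_
  have h := hd (∑ j, bb.repr z (ij.1, j) • b' j) fun n => by
    rw [map_sum, ← h1 n ij.1]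
    simp [map_smul]
  simpa using (Fintype.linearIndependent_iff.1 b'.linearIndependent _ h) ij.2

variable [IsDomain R] (K : Type u) [Field K] [Algebra R K] [IsFractionRing R K] {M : Type} [Fintype M]

/-- Separating points in number equal to the rank give all generic points. -/
theorem exists_generic [Module.Finite R B] [Module.Free R B] (c : M → B →ₐ[R] R)
    (hsep : ∀ x, (∀ m, c m x = 0) → x = 0) (hrk : Module.finrank R B = Fintype.card M) :
    ∃ Φ : K ⊗[R] B →ₐ[K] (M → K), Function.Bijective Φ ∧ ∀ b m, Φ (1 ⊗ₜ b) m = algebraMap R K (c m b) := by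
  classical
  let Φ : K ⊗[R] B →ₐ[K] (M → K) := Pi.algHom K _ fun m =>
    Algebra.TensorProduct.lift (AlgHom.id K K) ((Algebra.ofId R K).comp (c m)) fun _ _ => Commute.all _ _
  have hΦ : ∀ b m, Φ (1 ⊗ₜ b) m = algebraMap R K (c m b) := fun b m => by simp [Φ]
  have hinj : Function.Injective Φ := by
    refine (injective_iff_map_eq_zero Φ).2 fun z hz => ?_
    let b := Module.Free.chooseBasis R B
    let bK := Algebra.TensorProduct.basis K b
    obtain ⟨a, ha⟩ := IsLocalization.exist_integer_multiples (nonZeroDivisors R) Finset.univ fun i => bK.repr z i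
    choose r hr using fun i => ha i (Finset.mem_univ i)
    have hz' : (algebraMap R K a) • z = 1 ⊗ₜ[R] (∑ i, r i • b i) := by
      conv_lhs => rw [← bK.sum_repr z]
      rw [Finset.smul_sum, TensorProduct.tmul_sum]
      refine Finset.sum_congr rfl fun i _ => ?_
      rw [smul_smul, Algebra.TensorProduct.basis_apply, TensorProduct.tmul_smul, ← algebraMap_smul K (r i), hr i,
        Algebra.smul_def (a : R)]
    have hsum : ∑ i, r i • b i = 0 := hsep _ fun m => IsFractionRing.injective R K (by
      rw [map_zero, ← hΦ, ← hz', map_smul, hz, smul_zero]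
      rfl)
    rw [hsum, TensorProduct.tmul_zero] at hz'
    exact (smul_eq_zero.1 hz').resolve_left (IsFractionRing.to_map_ne_zero_of_mem_nonZeroDivisors a.2)
  exact ⟨Φ, ⟨hinj, (LinearMap.injective_iff_surjective_of_finrank_eq_finrank (f := Φ.toLinearMap) (by
    rw [Module.finrank_baseChange, hrk, Module.finrank_fintype_fun_eq_card])).1 hinj⟩, hΦ⟩

/-- Multiples of the indicator functions of the points come from the algebra. -/
theorem exists_indicators [DecidableEq M] [Module.Finite R B] [Module.Free R B] (c : M → B →ₐ[R] R)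
    (Φ : K ⊗[R] B →ₐ[K] (M → K)) (hΦ : Function.Bijective Φ)
    (hΦc : ∀ b m, Φ (1 ⊗ₜ b) m = algebraMap R K (c m b)) :
    ∃ (a : R) (e : M → B), a ≠ 0 ∧ ∀ m n, c n (e m) = if n = m then a else 0 := by
  classical
  let b := Module.Free.chooseBasis R B
  let bK := Algebra.TensorProduct.basis K b
  choose z hz using fun m => hΦ.2 (Pi.single m 1)
  obtain ⟨a, ha⟩ := IsLocalization.exist_integer_multiples (nonZeroDivisors R) (Finset.univ : Finset (M × _))
    fun mi => bK.repr (z mi.1) mi.2
  choose r hr using fun mi => ha mi (Finset.mem_univ mi)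
  refine ⟨a, fun m => ∑ i, r (m, i) • b i, nonZeroDivisors.ne_zero a.2, fun m n => IsFractionRing.injective R K ?_⟩
  have hz' : (algebraMap R K a) • z m = 1 ⊗ₜ[R] (∑ i, r (m, i) • b i) := by
    conv_lhs => rw [← bK.sum_repr (z m)]
    rw [Finset.smul_sum, TensorProduct.tmul_sum]
    refine Finset.sum_congr rfl fun i _ => ?_
    rw [smul_smul, Algebra.TensorProduct.basis_apply, TensorProduct.tmul_smul, ← algebraMap_smul K (r (m, i)), hr (m, i),
      Algebra.smul_def (a : R)]
  rw [← hΦc, ← hz', map_smul, hz]
  simp [Pi.single_apply, apply_ite (algebraMap R K)]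

end Groth.Agent.SekSuwa2
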