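import Groth.Agent.SekSuwa2.Main
import Groth.Agent.SekSuwa2.Sep
import Groth.Agent.HopfQuot.FiniteQuotNormal
import Groth.Agent.HopfQuot.FiniteQuotRank
import Groth.Agent.HopfQuot.SubHopfRing
import Mathlib.GroupTheory.PGroup

/-!
# A finite flat model of a group of order p² is an extension of models of groups of order p
-/

set_option autoImplicit false
set_option linter.style.haveILetI false

universe u

open TensorProduct IsLocalRing WithConv CategoryTheory

noncomputable section

namespace Groth.Agent.SekSuwa2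

open SekSuwa HopfQuot

variable {R : Type u} [CommRing R] [IsDomain R] [IsDiscreteValuationRing R] (p : ℕ) [hp : Fact p.Prime]
  {B : Type u} [CommRing B] [HopfAlgebra R B] [Module.Finite R B] [Module.Free R B]

/-- A finite free Hopf algebra with `p` separating points is the coordinate ring of some `G_{λ,1}`. -/
theorem exists_equiv_of_points [CharP (ResidueField R) p] (ζ : R) (hζ : IsPrimitiveRoot ζ p) (X : Type) [CommGroup X]
    [Fintype X] (hX : Fintype.card X = p) (c : X → B →ₐ[R] R)
    (hmul : ∀ m n, c (m * n) =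
      (Algebra.TensorProduct.lift (c m) (c n) fun _ _ => Commute.all _ _).comp (Bialgebra.comulAlgHom R B))
    (hsep : ∀ x, (∀ m, c m x = 0) → x = 0) (hrk : Module.finrank R B = p) :
    ∃ (lam : R) (h : DivCond lam p), lam ≠ 0 ∧ Nonempty (AK R lam p h ≃ₐc[R] B) := by
  classical
  let K := FractionRing R
  obtain ⟨Φ, hΦ, hΦc⟩ := exists_generic K c hsep (hrk.trans hX.symm)
  haveI : NeZero p := ⟨hp.out.ne_zero⟩
  let ψ : X ≃* Multiplicative (ZMod p) :=
    mulEquivOfPrimeCardEq (p := p) (by rw [Nat.card_eq_fintype_card, hX]) (by simp)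
  let f : X →* R :=
    { toFun := fun m => ζ ^ (Multiplicative.toAdd (ψ m)).val
      map_one' := by simp
      map_mul' := fun m n => by
        rw [map_mul, toAdd_mul, ZMod.val_add, ← pow_add]
        exact (pow_eq_pow_mod _ hζ.pow_eq_one).symm }
  let χ : X → B →ₐ[R] K := fun m => (Algebra.ofId R K).comp (c m)
  have hmul' : ∀ m n, χ (m * n) =
      (Algebra.TensorProduct.lift (χ m) (χ n) fun _ _ => Commute.all _ _).comp (Bialgebra.comulAlgHom R B) := by
    intro m n
    refine AlgHom.ext fun b => ?_
    show algebraMap R K (c (m * n) b) = _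
    rw [hmul, AlgHom.comp_apply, AlgHom.comp_apply]
    induction Bialgebra.comulAlgHom R B b using TensorProduct.induction_on with
    | zero => simp
    | add y z hy hz => simp only [map_add, hy, hz]
    | tmul y z => simp [χ]
  obtain ⟨u, hu⟩ := exists_character K χ hmul' Φ hΦ (fun b m => hΦc b m) (fun m b => ⟨c m b, rfl⟩) f
  exact exists_equiv p X ζ hζ hX c hmul hsep hrk f
    (fun m n hmn => ψ.injective (Multiplicative.toAdd.injective (ZMod.val_injective p
      (hζ.pow_inj (ZMod.val_lt _) (ZMod.val_lt _) hmn))))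
    (fun m => by show (ζ ^ _) ^ p = 1; rw [← pow_mul, mul_comm, pow_mul, hζ.pow_eq_one, one_pow])
    u (fun m => IsFractionRing.injective R K (hu m))

/-- The exact sequence on coordinate rings. -/
theorem exists_sequence [CharP (ResidueField R) p] (ζ : R) (hζ : IsPrimitiveRoot ζ p) (M : Type) [CommGroup M]
    [Fintype M] (hM : Fintype.card M = p ^ 2) (c : M → B →ₐ[R] R)
    (hmul : ∀ m n, c (m * n) =
      (Algebra.TensorProduct.lift (c m) (c n) fun _ _ => Commute.all _ _).comp (Bialgebra.comulAlgHom R B))
    (hsep : ∀ x, (∀ m, c m x = 0) → x = 0) (hrk : Module.finrank R B = p ^ 2) :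
    ∃ (lam mu : R) (h₁ : DivCond lam p) (h₂ : DivCond mu p), lam ≠ 0 ∧ mu ≠ 0 ∧
      ∃ (π : B →ₐc[R] AK R lam p h₁) (ι : AK R mu p h₂ →ₐc[R] B),
        (∀ x, π (ι x) = algebraMap R _ (Bialgebra.counitAlgHom R _ x)) ∧
        (ι : AK R mu p h₂ →+* B).FaithfullyFlat ∧ (ι : AK R mu p h₂ →+* B).FinitePresentation ∧
        IsPushout (CommRingCat.ofHom (ι : AK R mu p h₂ →+* B)) (CommRingCat.ofHom (ι : AK R mu p h₂ →+* B))
          (CommRingCat.ofHom (Algebra.TensorProduct.includeLeft : B →ₐ[R] B ⊗[R] AK R lam p h₁).toRingHom)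
          (CommRingCat.ofHom ((Algebra.TensorProduct.map (AlgHom.id R B) (π : B →ₐ[R] AK R lam p h₁)).comp
            (Bialgebra.comulAlgHom R B)).toRingHom) := by
  classical
  let K := FractionRing R
  obtain ⟨Φ, hΦ, hΦc⟩ := exists_generic K c hsep (hrk.trans hM.symm)
  obtain ⟨a, e, ha, hec⟩ := exists_indicators K c Φ hΦ hΦc
  have hext : ∀ x y, (∀ m, c m x = c m y) → x = y := fun x y h =>
    sub_eq_zero.1 (hsep _ fun m => by rw [map_sub, h, sub_self])
  have hone : c 1 = Bialgebra.counitAlgHom R B := by
    have h : toConv (c 1) * toConv (c 1) = toConv (c 1) := by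
      refine WithConv.ext (AlgHom.ext fun b => ?_)
      conv_rhs => rw [ofConv_toConv, ← one_mul (1 : M), hmul]
      rw [AlgHom.convMul_apply, ofConv_toConv, AlgHom.comp_apply]
      rfl
    have h1 : toConv (c 1) = 1 := by
      have h2 := congrArg (FinQuot.pinv (toConv (c 1)) * ·) h
      simpa [← mul_assoc, FinQuot.pinv_mul] using h2
    refine AlgHom.ext fun b => ?_
    have h3 := congrArg (fun g : WithConv (B →ₐ[R] R) => g.ofConv b) h1
    simpa [AlgHom.convOne_apply] using h3
  -- cocommutativity
  have hΔc : ∀ b, Algebra.TensorProduct.comm R B B (Bialgebra.comulAlgHom R B b) = Bialgebra.comulAlgHom R B b :=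
    fun b => sub_eq_zero.1 (sep_tensor c c hsep hsep _ fun m n => by
      rw [map_sub]
      have h1 : ∀ z : B ⊗[R] B,
          (Algebra.TensorProduct.lift (c m) (c n) fun _ _ => Commute.all _ _) (Algebra.TensorProduct.comm R B B z) =
            (Algebra.TensorProduct.lift (c n) (c m) fun _ _ => Commute.all _ _) z := fun z => by
        induction z using TensorProduct.induction_on with
        | zero => simp
        | add y z hy hz => simp only [map_add, hy, hz]
        | tmul y z => simp [mul_comm]
      rw [h1, ← AlgHom.comp_apply, ← AlgHom.comp_apply, ← hmul, ← hmul, mul_comm, sub_self])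
  -- the subgroup
  haveI : NeZero p := ⟨hp.out.ne_zero⟩
  obtain ⟨g, hg⟩ := exists_prime_orderOf_dvd_card p (hM ▸ dvd_pow_self p two_ne_zero : p ∣ Fintype.card M)
  let H : Subgroup M := Subgroup.zpowers g
  have hH : Fintype.card H = p := by rw [Fintype.card_zpowers, hg]
  let I : Ideal B := ⨅ h : H, RingHom.ker (c h)
  have hI : ∀ {x}, x ∈ I ↔ ∀ h : H, c h x = 0 := fun {x} => by simp [I, Submodule.mem_iInf, RingHom.mem_ker]
  let cH : H → (B ⧸ I) →ₐ[R] R := fun h => Ideal.Quotient.liftₐ I (c h) fun x hx => hI.1 hx h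
  have hcH : ∀ h x, cH h (Ideal.Quotient.mk I x) = c h x := fun h x => rfl
  have hsepH : ∀ x, (∀ h, cH h x = 0) → x = 0 := fun x hx => by
    obtain ⟨x, rfl⟩ := Ideal.Quotient.mk_surjective x
    exact Ideal.Quotient.eq_zero_iff_mem.2 (hI.2 hx)
  haveI : Module.Finite R (B ⧸ I) := Module.Finite.of_surjective (Ideal.Quotient.mkₐ R I).toLinearMap
    Ideal.Quotient.mk_surjective
  let L : (B ⧸ I) →ₗ[R] (H → R) := LinearMap.pi fun h => (cH h).toLinearMap
  have hL : Function.Injective L := (injective_iff_map_eq_zero L).2 fun x hx => hsepH x (congrFun hx)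
  haveI : Module.IsTorsionFree R (B ⧸ I) := Function.Injective.moduleIsTorsionFree L hL (map_smul L)
  haveI : Module.Free R (B ⧸ I) := Module.free_of_finite_type_torsion_free'
  have hrkH : Module.finrank R (B ⧸ I) = p := by
    refine le_antisymm ((LinearMap.finrank_le_finrank_of_injective hL).trans_eq (by
      rw [Module.finrank_fintype_fun_eq_card, hH])) ?_
    have hli : LinearIndependent R fun h : H => Ideal.Quotient.mk I (e h) := by
      refine Fintype.linearIndependent_iff.2 fun r hr h => ?_
      have h2 := congrArg (cH h) hr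
      simp only [map_sum, map_smul, hcH, hec, map_zero, smul_eq_mul, SetLike.coe_eq_coe, mul_ite, mul_zero,
        Finset.sum_ite_eq, Finset.mem_univ, if_true] at h2
      exact (mul_eq_zero.1 h2).resolve_right ha
    exact hH ▸ hli.fintype_card_le_finrank
  haveI hIH : I.IsHopfIdeal R := by
    have hcoi : ∀ x ∈ I, Algebra.TensorProduct.map (Ideal.Quotient.mkₐ R I) (Ideal.Quotient.mkₐ R I)
        (Bialgebra.comulAlgHom R B x) = 0 := fun x hx => sep_tensor cH cH hsepH hsepH _ fun h h' => by
      rw [← AlgHom.comp_apply, show (Algebra.TensorProduct.lift (cH h) (cH h') fun _ _ => Commute.all _ _).comp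
        (Algebra.TensorProduct.map (Ideal.Quotient.mkₐ R I) (Ideal.Quotient.mkₐ R I)) =
        Algebra.TensorProduct.lift (c h) (c h') fun _ _ => Commute.all _ _ from
          Algebra.TensorProduct.ext' fun y z => by simp [hcH], ← AlgHom.comp_apply, ← hmul]
      exact hI.1 hx (h * h')
    refine { counit_eq_zero := ?_, map_mkQ_comul_eq_zero := ?_, antipode_mem := ?_ }
    · intro x hx
      show Bialgebra.counitAlgHom R B x = 0
      rw [← hone]
      exact hI.1 hx 1
    · intro x hx
      have h0 := hcoi x hx
      have e1 : (TensorProduct.map (I.restrictScalars R).mkQ (I.restrictScalars R).mkQ) =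
          (TensorProduct.map (Submodule.Quotient.restrictScalarsEquiv R I).symm.toLinearMap
            (Submodule.Quotient.restrictScalarsEquiv R I).symm.toLinearMap).comp
            (Algebra.TensorProduct.map (Ideal.Quotient.mkₐ R I) (Ideal.Quotient.mkₐ R I)).toLinearMap :=
        TensorProduct.ext' fun y z => rfl
      rw [e1]
      show TensorProduct.map _ _ (Algebra.TensorProduct.map (Ideal.Quotient.mkₐ R I) (Ideal.Quotient.mkₐ R I)
        (Bialgebra.comulAlgHom R B x)) = 0
      rw [h0, map_zero]
    · intro x hx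
      refine hI.2 fun h => ?_
      have h1 : FinQuot.pinv (toConv (c (h : M))) = toConv (c ((h⁻¹ : H) : M)) := by
        refine left_inv_eq_right_inv (FinQuot.pinv_mul _) ?_
        refine WithConv.ext (AlgHom.ext fun b => ?_)
        rw [AlgHom.convMul_apply, ofConv_toConv, ofConv_toConv, AlgHom.convOne_apply, Subgroup.coe_inv]
        show _ = Bialgebra.counitAlgHom R B b
        rw [← hone, ← mul_inv_cancel (h : M), hmul]
        rfl
      have h2 := congrArg (fun g : WithConv (B →ₐ[R] R) => g.ofConv x) h1
      exact h2.trans (hI.1 hx _)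
  have hmulH : ∀ h h', cH (h * h') =
      (Algebra.TensorProduct.lift (cH h) (cH h') fun _ _ => Commute.all _ _).comp (Bialgebra.comulAlgHom R (B ⧸ I)) := by
    intro h h'
    refine Ideal.Quotient.algHom_ext R (AlgHom.ext fun x => ?_)
    show c ((h : M) * h') x = (Algebra.TensorProduct.lift (cH h) (cH h') fun _ _ => Commute.all _ _)
      (CoalgebraStruct.comul (R := R) (Ideal.Quotient.mk I x))
    rw [Bialgebra.Quotient.comul_mk, hmul]
    show (Algebra.TensorProduct.lift (c (h : M)) (c (h' : M)) fun _ _ => Commute.all _ _)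
      (CoalgebraStruct.comul (R := R) x) = _
    induction CoalgebraStruct.comul (R := R) x using TensorProduct.induction_on with
    | zero => simp
    | add y z hy hz => simp only [map_add, hy, hz]
    | tmul y z => rfl
  obtain ⟨lam, h₁, hlam, ⟨e₁⟩⟩ := exists_equiv_of_points (B := B ⧸ I) p ζ hζ H hH cH hmulH hsepH hrkH
  -- the invariants
  haveI : Module.Finite R ↥(FinQuot.inv R I) :=
    Module.Finite.of_injective (FinQuot.inv R I).val.toLinearMap Subtype.val_injective
  haveI : Module.IsTorsionFree R ↥(FinQuot.inv R I) :=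
    Function.Injective.moduleIsTorsionFree (FinQuot.inv R I).val.toLinearMap Subtype.val_injective (fun _ _ => rfl)
  haveI : Module.Free R ↥(FinQuot.inv R I) := Module.free_of_finite_type_torsion_free'
  have hnorm : SGA3.IsNormalHopfIdeal R B I := by
    intro S _ _ g' h' hh' x hx
    have hconv : ∀ (g₁ g₂ g₃ : B →ₐ[R] S) (b : B),
        Dyn.conv3 R B g₁ g₂ g₃ b = (toConv g₁ * toConv g₂ * toConv g₃).ofConv b := by
      intro g₁ g₂ g₃ b
      rw [AlgHom.convMul_apply]
      show Algebra.TensorProduct.lmul' R (Algebra.TensorProduct.map _ g₃ (Algebra.TensorProduct.map _ _ (CoalgebraStruct.comul b))) = _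
      induction CoalgebraStruct.comul (R := R) b using TensorProduct.induction_on with
      | zero => simp
      | add y z hy hz => simp only [map_add, hy, hz]
      | tmul y z =>
        simp only [Algebra.TensorProduct.map_tmul, Algebra.TensorProduct.lmul'_apply_tmul, AlgHom.id_apply,
          Algebra.TensorProduct.lift_tmul, ofConv_toConv, AlgHom.comp_apply, AlgHom.convMul_apply]
        congr 1
        show Algebra.TensorProduct.lmul' R (Algebra.TensorProduct.map g₁ g₂ (CoalgebraStruct.comul y)) = _
        induction CoalgebraStruct.comul (R := R) y using TensorProduct.induction_on with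
        | zero => simp
        | add y' z' hy' hz' => simp only [map_add, hy', hz']
        | tmul y' z' => simp
    have hcomm : toConv g' * toConv h' = toConv h' * toConv g' := by
      refine WithConv.ext (AlgHom.ext fun b => ?_)
      rw [AlgHom.convMul_apply, AlgHom.convMul_apply, ofConv_toConv, ofConv_toConv]
      conv_rhs => rw [show CoalgebraStruct.comul (R := R) b = _ from (hΔc b).symm]
      show _ = _
      rw [show Bialgebra.comulAlgHom R B b = CoalgebraStruct.comul (R := R) b from rfl]
      induction CoalgebraStruct.comul (R := R) b using TensorProduct.induction_on with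
      | zero => simp
      | add y z hy hz => simp only [map_add, hy, hz]
      | tmul y z => simp [mul_comm]
    rw [hconv, hcomm, mul_assoc]
    show ((toConv h') * (toConv g' * FinQuot.pinv (toConv g'))).ofConv x = 0
    rw [FinQuot.mul_pinv, mul_one]
    exact hh' x hx
  have hHopf := FinQuot.isHopfSubalgebra (R := R) (A := B) hnorm
  letI : HopfAlgebra R ↥(FinQuot.inv R I) := SubHopfRing.subHopf hHopf
  have hinv : ∀ b : B, b ∈ FinQuot.inv R I ↔ ∀ (m : M) (h : H), c (m * h) b = c m b := by
    intro b
    have hlift : ∀ (m : M) (h : H), (Algebra.TensorProduct.lift (c m) (cH h) fun _ _ => Commute.all _ _)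
        (FinQuot.tA (R := R) I b) = c (m * h) b := fun m h => by
      rw [FinQuot.tA, AlgHom.comp_apply, ← AlgHom.comp_apply, show (Algebra.TensorProduct.lift (c m) (cH h) fun _ _ =>
        Commute.all _ _).comp (Algebra.TensorProduct.map (AlgHom.id R B) (Ideal.Quotient.mkₐ R I)) =
        Algebra.TensorProduct.lift (c m) (c h) fun _ _ => Commute.all _ _ from
          Algebra.TensorProduct.ext' fun y z => by simp [hcH], ← AlgHom.comp_apply, ← hmul]
    have hlift' : ∀ (m : M) (h : H), (Algebra.TensorProduct.lift (c m) (cH h) fun _ _ => Commute.all _ _)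
        (FinQuot.sA (R := R) I b) = c m b := fun m h => by simp [FinQuot.sA]
    constructor
    · intro hb m h
      rw [← hlift, show FinQuot.tA (R := R) I b = FinQuot.sA (R := R) I b from hb, hlift']
    · intro hb
      show FinQuot.tA (R := R) I b = FinQuot.sA (R := R) I b
      refine sub_eq_zero.1 (sep_tensor c cH hsep hsepH _ fun m h => ?_)
      rw [map_sub, hlift, hlift', hb, sub_self]
  let d : M ⧸ H → ↥(FinQuot.inv R I) →ₐ[R] R := Quotient.lift (fun m => (c m).comp (FinQuot.inv R I).val)
    fun m n hmn => AlgHom.ext fun b => by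
      have h := (hinv b.1).1 b.2 m ⟨m⁻¹ * n, (QuotientGroup.leftRel_apply.1 hmn)⟩
      rw [mul_inv_cancel_left] at h
      exact h.symm
  have hd : ∀ (m : M) b, d (m : M ⧸ H) b = c m b.1 := fun m b => rfl
  have hsepQ : ∀ x, (∀ q, d q x = 0) → x = 0 := fun x hx => Subtype.ext (hsep _ fun m => hx (m : M ⧸ H))
  haveI : Fintype (M ⧸ H) := Fintype.ofFinite _
  have hQ : Fintype.card (M ⧸ H) = p := by
    have h := Subgroup.card_eq_card_quotient_mul_card_subgroup H
    rw [Nat.card_eq_fintype_card, Nat.card_eq_fintype_card, Nat.card_eq_fintype_card, hM, hH, pow_two] at h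
    exact (Nat.eq_of_mul_eq_mul_right hp.out.pos h).symm
  have hrkQ : Module.finrank R ↥(FinQuot.inv R I) = p := by
    let L' : ↥(FinQuot.inv R I) →ₗ[R] (M ⧸ H → R) := LinearMap.pi fun q => (d q).toLinearMap
    have hL' : Function.Injective L' := (injective_iff_map_eq_zero L').2 fun x hx => hsepQ x (congrFun hx)
    refine le_antisymm ((LinearMap.finrank_le_finrank_of_injective hL').trans_eq (by
      rw [Module.finrank_fintype_fun_eq_card, hQ])) ?_
    let E : M ⧸ H → B := fun q => ∑ n ∈ Finset.univ.filter (fun n : M => (n : M ⧸ H) = q), e n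
    have hE : ∀ m q, c m (E q) = if (m : M ⧸ H) = q then a else 0 := fun m q => by
      simp only [E, map_sum, hec, Finset.sum_ite_eq, Finset.mem_filter, Finset.mem_univ, true_and]
    have hEmem : ∀ q, E q ∈ FinQuot.inv R I := fun q => (hinv _).2 fun m h => by
      rw [hE, hE, QuotientGroup.mk_mul_of_mem m h.2]
    have hli : LinearIndependent R fun q => (⟨E q, hEmem q⟩ : ↥(FinQuot.inv R I)) := by
      refine Fintype.linearIndependent_iff.2 fun r hr q => ?_
      obtain ⟨m, rfl⟩ := QuotientGroup.mk_surjective q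
      have h2 := congrArg (fun z : ↥(FinQuot.inv R I) => c m z.1) hr
      simp only [AddSubmonoidClass.coe_finsetSum, SetLike.val_smul, map_sum, map_smul, hE, smul_eq_mul, mul_ite,
        mul_zero, Finset.sum_ite_eq, Finset.mem_univ, if_true, ZeroMemClass.coe_zero, map_zero] at h2
      exact (mul_eq_zero.1 h2).resolve_right ha
    exact hQ ▸ hli.fintype_card_le_finrank
  have hmulQ : ∀ q q', d (q * q') = (Algebra.TensorProduct.lift (d q) (d q') fun _ _ => Commute.all _ _).comp
      (Bialgebra.comulAlgHom R ↥(FinQuot.inv R I)) := by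
    intro q q'
    obtain ⟨m, rfl⟩ := QuotientGroup.mk_surjective q
    obtain ⟨n, rfl⟩ := QuotientGroup.mk_surjective q'
    refine AlgHom.ext fun b => ?_
    show c (m * n) b.1 = (Algebra.TensorProduct.lift (d (m : M ⧸ H)) (d (n : M ⧸ H)) fun _ _ => Commute.all _ _) (SubHopfRing.subComul hHopf b)
    rw [hmul, AlgHom.comp_apply, show Bialgebra.comulAlgHom R B b.1 = CoalgebraStruct.comul (R := R) (b : B) from rfl,
      ← SubHopfRing.map_subComul hHopf b]
    induction SubHopfRing.subComul hHopf b using TensorProduct.induction_on with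
    | zero => simp
    | add y z hy hz => simp only [map_add, hy, hz]
    | tmul y z => simp [hd]
  obtain ⟨mu, h₂, hmu, ⟨e₂⟩⟩ := exists_equiv_of_points p ζ hζ (M ⧸ H) hQ d hmulQ hsepQ hrkQ
  let incl' : ↥(FinQuot.inv R I) →ₐc[R] B := BialgHom.ofAlgHom (FinQuot.inv R I).val (AlgHom.ext fun b => rfl)
    (AlgHom.ext fun b => SubHopfRing.map_subComul hHopf b)
  let π : B →ₐc[R] AK R lam p h₁ := (e₁.symm : B ⧸ I →ₐc[R] AK R lam p h₁).comp (Bialgebra.Quotient.mkBialgHom (R := R) I)
  let ι : AK R mu p h₂ →ₐc[R] B := incl'.comp (e₂ : AK R mu p h₂ →ₐc[R] ↥(FinQuot.inv R I))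
  refine ⟨lam, mu, h₁, h₂, hlam, hmu, π, ι, fun x => ?_, ?_, ?_, ?_⟩
  · show e₁.symm (Ideal.Quotient.mk I ((e₂ x : ↥(FinQuot.inv R I)) : B)) = _
    have h : ((e₂ x : ↥(FinQuot.inv R I)) : B) - algebraMap R B (Bialgebra.counitAlgHom R _ x) ∈ I := by
      refine FinQuot.mem_of_mem_inv I (sub_mem (e₂ x).2 (algebraMap_mem _ _)) ?_
      rw [map_sub, AlgHom.commutes, sub_eq_zero]
      exact (CoalgHomClass.counit_comp_apply e₂ x)
    rw [Ideal.Quotient.eq.2 h]
    exact AlgHomClass.commutes e₁.symm _
  · exact RingHom.FaithfullyFlat.stableUnderComposition _ _ (RingHom.FaithfullyFlat.of_bijective (f := (e₂.toAlgEquiv : AK R mu p h₂ →+* ↥(FinQuot.inv R I))) e₂.toAlgEquiv.bijective)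
      (RingHom.faithfullyFlat_algebraMap_iff.2 (FinQuot.faithfullyFlat I))
  · exact RingHom.FinitePresentation.comp (FinQuot.main (R := R) I).2.2.1
      (RingHom.FinitePresentation.of_bijective (f := (e₂.toAlgEquiv : AK R mu p h₂ →+* ↥(FinQuot.inv R I))) e₂.toAlgEquiv.bijective)
  · let f : B ⊗[↥(FinQuot.inv R I)] B →+* B ⊗[R] AK R lam p h₁ :=
      FinQuot.liftRing₂ (Algebra.TensorProduct.includeLeft : B →ₐ[R] B ⊗[R] AK R lam p h₁).toRingHom
        ((Algebra.TensorProduct.map (AlgHom.id R B) (π : B →ₐ[R] AK R lam p h₁)).comp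
          (Bialgebra.comulAlgHom R B)).toRingHom (RingHom.ext fun b => by
        show Algebra.TensorProduct.map (AlgHom.id R B) (π : B →ₐ[R] AK R lam p h₁) (Bialgebra.comulAlgHom R B b.1) =
          b.1 ⊗ₜ[R] 1
        have hb : FinQuot.tA (R := R) I b.1 = FinQuot.sA (R := R) I b.1 := b.2
        have h := congrArg (Algebra.TensorProduct.map (AlgHom.id R B)
          (e₁.symm : B ⧸ I →ₐ[R] AK R lam p h₁)) hb
        rw [FinQuot.tA, AlgHom.comp_apply, FinQuot.sA, Algebra.TensorProduct.includeLeft_apply,
          Algebra.TensorProduct.map_tmul, map_one, AlgHom.id_apply, ← AlgHom.comp_apply,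
          ← Algebra.TensorProduct.map_comp] at h
        exact h)
    have hf : Function.Bijective f := by
      have e : (f : B ⊗[↥(FinQuot.inv R I)] B → B ⊗[R] AK R lam p h₁) =
          (Algebra.TensorProduct.congr (AlgEquiv.refl (R := R) (A₁ := B)) (e₁.symm.toAlgEquiv : (B ⧸ I) ≃ₐ[R] AK R lam p h₁)) ∘
            FinQuot.pairLin (R := R) I := by
        funext z
        induction z using TensorProduct.induction_on with
        | zero => simp
        | add y z hy hz => simp only [Function.comp_apply, map_add, hy, hz] at *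
        | tmul y z =>
          simp only [Function.comp_apply, f, FinQuot.liftRing₂_tmul, FinQuot.pairLin_tmul, map_mul]
          congr 1
          · simp [FinQuot.sA]
          · rw [FinQuot.tA]
            show Algebra.TensorProduct.map _ _ (Bialgebra.comulAlgHom R B z) =
              Algebra.TensorProduct.congr _ _ (Algebra.TensorProduct.map _ _ (Bialgebra.comulAlgHom R B z))
            induction Bialgebra.comulAlgHom R B z using TensorProduct.induction_on with
            | zero => simp
            | add y' z' hy' hz' => simp only [map_add, hy', hz']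
            | tmul y' z' => rfl
      rw [e]
      exact (AlgEquiv.bijective _).comp (FinQuot.pairLin_bijective I)
    have hf1 : ∀ x, f (x ⊗ₜ 1) = x ⊗ₜ[R] 1 := fun x => by
      simp only [f, FinQuot.liftRing₂_tmul, map_one, mul_one]
      rfl
    have hf2 : ∀ x, f (1 ⊗ₜ x) = Algebra.TensorProduct.map (AlgHom.id R B) (π : B →ₐ[R] AK R lam p h₁)
        (Bialgebra.comulAlgHom R B x) := fun x => by
      simp only [f, FinQuot.liftRing₂_tmul, map_one, one_mul]
      rfl
    refine IsPushout.of_iso (CommRingCat.isPushout_tensorProduct ↥(FinQuot.inv R I) B B)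
      e₂.toAlgEquiv.toRingEquiv.symm.toCommRingCatIso (Iso.refl _) (Iso.refl _)
      (RingEquiv.ofBijective f hf).toCommRingCatIso ?_ ?_ ?_ ?_
    · exact CommRingCat.hom_ext (RingHom.ext fun x =>
        congrArg Subtype.val (e₂.toAlgEquiv.apply_symm_apply x).symm)
    · exact CommRingCat.hom_ext (RingHom.ext fun x =>
        congrArg Subtype.val (e₂.toAlgEquiv.apply_symm_apply x).symm)
    · exact CommRingCat.hom_ext (RingHom.ext fun x => hf1 x)
    · exact CommRingCat.hom_ext (RingHom.ext fun x => hf2 x)

end Groth.Agent.SekSuwa2
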